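import Cfsg.Agent.H188.Fac.PLTwo

/-!
# Combinatorics for direct powers of `PSL_n(2)` (helper446, for helper370, S3624)
-/

set_option autoImplicit false

namespace Cfsg.Agent.H446.DP.Comb

open Cfsg Cfsg.Agent.H370.DP Cfsg.Agent.H188.Fac.PLTwo

/-- tight elements in a product -/
theorem tight_comb {F : Type*} [Field F] [Fintype F] (hF : Fintype.card F = 2) (P : ℕ → ℕ)
    (hP : ∀ i, 7 ≤ i → (P i).Prime) (hPo : ∀ i, 7 ≤ i → orderOf (2 : ZMod (P i)) = i) {ι : Type*} [Fintype ι] {n : ℕ}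
    (hn : 32 ≤ n) (hne : Even n) {J : Finset ℕ} (hJ : ∀ s ∈ J, n < 4 * s ∧ 2 * s < n ∧ Odd s)
    (hcard : J.card = Fintype.card ι) (m : ι → ℕ) (hm : ∀ i, m i ≤ n) (g : ∀ i, PL F (m i))
    (h1 : ∀ s ∈ J, ∃ i, P s ∣ orderOf (g i)) (h2 : ∀ s ∈ J, ∃ i, P (n - s) ∣ orderOf (g i)) :
    ∀ i, m i = n ∧ ∃ s ∈ J, P s ∣ orderOf (g i) ∧ P (n - s) ∣ orderOf (g i) := by
  classical
  have hJ' : ∀ s : J, n < 4 * (s : ℕ) ∧ 2 * (s : ℕ) < n ∧ Odd (s : ℕ) := fun s => hJ s s.2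
  choose α hα using fun s : J => h2 s s.2
  choose β hβ using fun s : J => h1 s s.2
  have hc : Fintype.card J = Fintype.card ι := by rw [Fintype.card_coe, hcard]
  -- `s` does not divide `n - u`
  have hnd : ∀ s u : J, ¬ (s : ℕ) ∣ n - (u : ℕ) := by
    rintro s u ⟨c, hc⟩
    obtain ⟨a1, a2, a3⟩ := hJ' s
    obtain ⟨b1, b2, b3⟩ := hJ' u
    have ho : Odd (n - (u : ℕ)) := Nat.Even.sub_odd (by omega) hne b3
    have hco : Odd c := by
      rw [hc] at ho
      exact (Nat.odd_mul.1 ho).2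
    obtain ⟨d, hd⟩ := hco
    rcases Nat.eq_zero_or_pos d with h0 | h0
    · rw [hd, h0] at hc
      omega
    · have h3 : (s : ℕ) * 3 ≤ (s : ℕ) * c := Nat.mul_le_mul_left _ (by omega)
      omega
  have hαinj : Function.Injective α := by
    intro s s' h
    by_contra hne'
    have hne2 : (s : ℕ) ≠ (s' : ℕ) := fun h => hne' (Subtype.ext h)
    obtain ⟨a1, a2, a3⟩ := hJ' s
    obtain ⟨b1, b2, b3⟩ := hJ' s'
    have e1 := hα s
    have e2 := hα s'
    rw [← h] at e2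
    have h5 := hm (α s)
    have h3 := pair_le hF (hP (n - s) (by omega)) (hP (n - s') (by omega)) (hPo (n - s) (by omega))
      (hPo (n - s') (by omega)) (by omega) (by omega) (by omega) (by
        rintro ⟨c, hc⟩
        rcases Nat.lt_or_ge c 2 with h6 | h6
        · interval_cases c <;> omega
        · have : (n - (s' : ℕ)) * 2 ≤ (n - (s' : ℕ)) * c := Nat.mul_le_mul_left _ h6
          omega) e1 e2
    omega
  have hαb : Function.Bijective α := (Fintype.bijective_iff_injective_and_card α).2 ⟨hαinj, hc⟩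
  have hβinj : Function.Injective β := by
    intro s s' h
    by_contra hne'
    have hne2 : (s : ℕ) ≠ (s' : ℕ) := fun h => hne' (Subtype.ext h)
    obtain ⟨a1, a2, a3⟩ := hJ' s
    obtain ⟨b1, b2, b3⟩ := hJ' s'
    have e1 := hβ s
    have e2 := hβ s'
    rw [← h] at e2
    obtain ⟨u, hu⟩ := hαb.2 (β s)
    have e3 := hα u
    rw [hu] at e3
    obtain ⟨c1, c2, c3⟩ := hJ' u
    have h5 := hm (β s)
    exact triple_le hF (hP (n - u) (by omega)) (hP s (by omega)) (hP s' (by omega)) (hPo (n - u) (by omega))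
      (hPo s (by omega)) (hPo s' (by omega)) (by omega) (by omega) hne2 (by omega) (by omega) (hnd s u) (hnd s' u)
      e3 e1 e2
  have hβb : Function.Bijective β := (Fintype.bijective_iff_injective_and_card β).2 ⟨hβinj, hc⟩
  let a := Equiv.ofBijective α hαb
  let b := Equiv.ofBijective β hβb
  have ha : ∀ i, α (a.symm i) = i := fun i => a.apply_symm_apply i
  have hb : ∀ i, β (b.symm i) = i := fun i => b.apply_symm_apply i
  have hpair : ∀ i, n - ((a.symm i : J) : ℕ) + ((b.symm i : J) : ℕ) ≤ m i := by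
    intro i
    obtain ⟨a1, a2, a3⟩ := hJ' (a.symm i)
    obtain ⟨b1, b2, b3⟩ := hJ' (b.symm i)
    have e1 : P (n - ((a.symm i : J) : ℕ)) ∣ orderOf (g i) := by
      have := hα (a.symm i)
      rwa [ha] at this
    have e2 : P ((b.symm i : J) : ℕ) ∣ orderOf (g i) := by
      have := hβ (b.symm i)
      rwa [hb] at this
    have h5 := hm i
    exact pair_le hF (hP _ (by omega)) (hP _ (by omega)) (hPo _ (by omega)) (hPo _ (by omega)) (by omega) (by omega)
      (by omega) (hnd (b.symm i) (a.symm i)) e1 e2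
  have hle : ∀ i ∈ (Finset.univ : Finset ι), ((b.symm i : J) : ℕ) ≤ ((a.symm i : J) : ℕ) := by
    intro i _
    have h3 := hpair i
    have h4 := hm i
    obtain ⟨a1, a2, a3⟩ := hJ' (a.symm i)
    omega
  have hsum : ∑ i, ((b.symm i : J) : ℕ) = ∑ i, ((a.symm i : J) : ℕ) := by
    rw [Equiv.sum_comp b.symm (fun j : J => (j : ℕ)), Equiv.sum_comp a.symm (fun j : J => (j : ℕ))]
  have heq := (Finset.sum_eq_sum_iff_of_le hle).1 hsum
  intro i
  have h3 := heq i (Finset.mem_univ i)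
  have h4 := hpair i
  have h5 := hm i
  obtain ⟨a1, a2, a3⟩ := hJ' (a.symm i)
  refine ⟨by omega, ((a.symm i : J) : ℕ), (a.symm i).2, ?_, ?_⟩
  · rw [← h3]
    have := hβ (b.symm i)
    rwa [hb] at this
  · have := hα (a.symm i)
    rwa [ha] at this

theorem eight_le' {l k : ℕ} (hk : 2 ≤ k) (hn : 56 * k ^ 2 ≤ 2 ^ l) : 8 ≤ l := by
  by_contra h
  have h1 : 2 ^ l ≤ 2 ^ 7 := Nat.pow_le_pow_right (by norm_num) (by omega)
  nlinarith

theorem exists_J {l k e : ℕ} (hk : 2 ≤ k) (hn : 56 * k ^ 2 ≤ 2 ^ l) (he : 2 ≤ e) :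
    ∃ J : Finset ℕ, J.card = k ∧ ∀ s ∈ J, 2 ^ l < 4 * s ∧ 2 * s < 2 ^ l ∧ Odd s ∧ ¬ e ∣ s ∧ ¬ e ∣ 2 ^ l - s := by
  classical
  have hl := eight_le' hk hn
  obtain ⟨t, rfl⟩ := Nat.exists_eq_add_of_le' hl
  have hpow : 2 ^ (t + 8) = 4 * (2 * 2 ^ (t + 5)) := by
    rw [show t + 8 = (t + 5) + 3 by ring, pow_add 2 (t + 5) 3]; ring
  have ht : 1 ≤ 2 ^ (t + 5) := Nat.one_le_two_pow
  rw [hpow] at hn ⊢
  generalize 2 ^ (t + 5) = N at hn ht
  have hkk : 2 * k ≤ k ^ 2 := by nlinarith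
  have key : ∀ j : ℕ, j < k → ∃ s, (2 * N + 1 + 6 * j ≤ s ∧ s ≤ 2 * N + 5 + 6 * j) ∧ Odd s ∧ ¬ e ∣ s ∧
      ¬ e ∣ 4 * (2 * N) - s := by
    intro j hj
    have hbound : 2 * N + 5 + 6 * j < 4 * (2 * N) := by omega
    rcases Nat.even_or_odd e with hee | heo
    · have hodd : Odd (2 * N + 1 + 6 * j) := ⟨N + 3 * j, by ring⟩
      refine ⟨2 * N + 1 + 6 * j, ⟨le_rfl, by omega⟩, hodd, ?_, ?_⟩
      · intro h
        exact (Nat.not_even_iff_odd.2 hodd) (even_iff_two_dvd.2 (hee.two_dvd.trans h))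
      · intro h
        have h3 : Odd (4 * (2 * N) - (2 * N + 1 + 6 * j)) :=
          Nat.Even.sub_odd (by omega) ⟨4 * N, by ring⟩ hodd
        exact (Nat.not_even_iff_odd.2 h3) (even_iff_two_dvd.2 (hee.two_dvd.trans h))
    · have h2 : ¬ e ∣ 2 := by
        intro h
        have := Nat.le_of_dvd (by norm_num) h
        have : e = 2 := by omega
        rw [this] at heo
        exact absurd heo (by decide)
      have h4 : ¬ e ∣ 4 := by
        intro h
        have h5 : Nat.Coprime e 2 := heo.coprime_two_right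
        exact h2 (h5.dvd_of_dvd_mul_left (show e ∣ 2 * 2 from h))
      by_contra hcon
      push Not at hcon
      have c0 := hcon (2 * N + 1 + 6 * j) ⟨le_rfl, by omega⟩ ⟨N + 3 * j, by ring⟩
      have c2 := hcon (2 * N + 3 + 6 * j) ⟨by omega, by omega⟩ ⟨N + 3 * j + 1, by ring⟩
      have c4 := hcon (2 * N + 5 + 6 * j) ⟨by omega, le_rfl⟩ ⟨N + 3 * j + 2, by ring⟩
      have d1 : ¬ (e ∣ 2 * N + 1 + 6 * j ∧ e ∣ 2 * N + 3 + 6 * j) := by
        rintro ⟨a, b⟩
        have := Nat.dvd_sub b a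
        rw [show 2 * N + 3 + 6 * j - (2 * N + 1 + 6 * j) = 2 by omega] at this
        exact h2 this
      have d2 : ¬ (e ∣ 2 * N + 3 + 6 * j ∧ e ∣ 2 * N + 5 + 6 * j) := by
        rintro ⟨a, b⟩
        have := Nat.dvd_sub b a
        rw [show 2 * N + 5 + 6 * j - (2 * N + 3 + 6 * j) = 2 by omega] at this
        exact h2 this
      have d3 : ¬ (e ∣ 2 * N + 1 + 6 * j ∧ e ∣ 2 * N + 5 + 6 * j) := by
        rintro ⟨a, b⟩
        have := Nat.dvd_sub b a
        rw [show 2 * N + 5 + 6 * j - (2 * N + 1 + 6 * j) = 4 by omega] at this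
        exact h4 this
      have d4 : ¬ (e ∣ 4 * (2 * N) - (2 * N + 1 + 6 * j) ∧ e ∣ 4 * (2 * N) - (2 * N + 3 + 6 * j)) := by
        rintro ⟨a, b⟩
        have := Nat.dvd_sub a b
        rw [show 4 * (2 * N) - (2 * N + 1 + 6 * j) - (4 * (2 * N) - (2 * N + 3 + 6 * j)) = 2 by omega] at this
        exact h2 this
      have d5 : ¬ (e ∣ 4 * (2 * N) - (2 * N + 3 + 6 * j) ∧ e ∣ 4 * (2 * N) - (2 * N + 5 + 6 * j)) := by
        rintro ⟨a, b⟩
        have := Nat.dvd_sub a b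
        rw [show 4 * (2 * N) - (2 * N + 3 + 6 * j) - (4 * (2 * N) - (2 * N + 5 + 6 * j)) = 2 by omega] at this
        exact h2 this
      have d6 : ¬ (e ∣ 4 * (2 * N) - (2 * N + 1 + 6 * j) ∧ e ∣ 4 * (2 * N) - (2 * N + 5 + 6 * j)) := by
        rintro ⟨a, b⟩
        have := Nat.dvd_sub a b
        rw [show 4 * (2 * N) - (2 * N + 1 + 6 * j) - (4 * (2 * N) - (2 * N + 5 + 6 * j)) = 4 by omega] at this
        exact h4 this
      by_cases x0 : e ∣ 2 * N + 1 + 6 * j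
      · by_cases x2 : e ∣ 2 * N + 3 + 6 * j
        · exact d1 ⟨x0, x2⟩
        · by_cases x4 : e ∣ 2 * N + 5 + 6 * j
          · exact d3 ⟨x0, x4⟩
          · exact d5 ⟨c2 x2, c4 x4⟩
      · by_cases x2 : e ∣ 2 * N + 3 + 6 * j
        · by_cases x4 : e ∣ 2 * N + 5 + 6 * j
          · exact d2 ⟨x2, x4⟩
          · exact d6 ⟨c0 x0, c4 x4⟩
        · exact d4 ⟨c0 x0, c2 x2⟩
  choose! f hf using key
  refine ⟨(Finset.range k).image f, ?_, ?_⟩
  · rw [Finset.card_image_of_injOn, Finset.card_range]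
    intro i hi j hj hij
    rw [Finset.mem_coe, Finset.mem_range] at hi hj
    have h1 := (hf i hi).1
    have h2 := (hf j hj).1
    omega
  · intro s hs
    obtain ⟨j, hj, rfl⟩ := Finset.mem_image.1 hs
    rw [Finset.mem_range] at hj
    obtain ⟨⟨h1, h1'⟩, h2, h3, h4⟩ := hf j hj
    exact ⟨by omega, by omega, h2, h3, h4⟩

theorem exists_I {l k e m : ℕ} (P : ℕ → ℕ) (hPi : ∀ i j, 7 ≤ i → 7 ≤ j → P i = P j → i = j) {R : Finset ℕ}
    (hR : ∀ i, 2 ^ l / 2 < i → i ≤ 2 ^ l → P i ∈ R) (hk : 2 ≤ k) (hn : 56 * k ^ 2 ≤ 2 ^ l) {Ω : Finset ℕ}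
    (hbig : 2 * (R \ Ω).card ≤ k * (k + 3) + 4 * k) (hm : 2 * 2 ^ l ≤ 2 * m + 4 * k + k * (k + 3)) :
    ∃ I : Finset ℕ, I.card = k ∧ ∀ i ∈ I, Odd i ∧ 3 * 2 ^ l < 4 * i ∧ i + 1 ≤ m ∧ i ≤ 2 ^ l ∧ P i ∈ Ω ∧ i ≠ e ∧
      i ≠ 3 * e := by
  classical
  have hl := eight_le' hk hn
  obtain ⟨t, rfl⟩ := Nat.exists_eq_add_of_le' hl
  have hpow : 2 ^ (t + 8) = 4 * (2 * 2 ^ (t + 5)) := by
    rw [show t + 8 = (t + 5) + 3 by ring, pow_add 2 (t + 5) 3]; ring
  rw [hpow] at hn hR hm ⊢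
  generalize 2 ^ (t + 5) = N at hn hR hm
  have hkk : 2 * k ≤ k ^ 2 := by nlinarith
  have hkk4 : 4 ≤ k ^ 2 := by nlinarith
  have hk3 : k * (k + 3) = k ^ 2 + 3 * k := by ring
  rw [hk3] at hbig hm
  -- the number of candidates
  set T := (4 * N - (k ^ 2 + 7 * k)) / 4 with hT
  let c : ℕ → ℕ := fun j => 6 * N + 1 + 2 * j
  have hcinj : Function.Injective c := fun i j h => by
    have : 6 * N + 1 + 2 * i = 6 * N + 1 + 2 * j := h
    omega
  let C : Finset ℕ := (Finset.range T).image c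
  have hCcard : C.card = T := by
    rw [Finset.card_image_of_injective _ hcinj, Finset.card_range]
  have hC : ∀ i ∈ C, Odd i ∧ 6 * N < i ∧ i + 1 ≤ m ∧ i ≤ 8 * N := by
    intro i hi
    obtain ⟨j, hj, rfl⟩ := Finset.mem_image.1 hi
    rw [Finset.mem_range] at hj
    have h1 : c j = 6 * N + 1 + 2 * j := rfl
    rw [h1]
    exact ⟨⟨3 * N + j, by ring⟩, by omega, by omega, by omega⟩
  let G : Finset ℕ := C.filter fun i => P i ∈ Ω ∧ i ≠ e ∧ i ≠ 3 * e
  have hB : (C.filter fun i => P i ∉ Ω).card ≤ (R \ Ω).card := by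
    apply Finset.card_le_card_of_injOn P
    · intro i hi
      rw [Finset.mem_coe, Finset.mem_filter] at hi
      obtain ⟨h1, h2, h3, h4⟩ := hC i hi.1
      rw [Finset.mem_coe, Finset.mem_sdiff]
      exact ⟨hR i (by omega) (by omega), hi.2⟩
    · intro i hi j hj h
      rw [Finset.mem_coe, Finset.mem_filter] at hi hj
      obtain ⟨h1, h2, h3, h4⟩ := hC i hi.1
      obtain ⟨g1, g2, g3, g4⟩ := hC j hj.1
      exact hPi i j (by omega) (by omega) h
  have hcov : C ⊆ G ∪ ((C.filter fun i => P i ∉ Ω) ∪ {e, 3 * e}) := by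
    intro i hi
    simp only [G, Finset.mem_union, Finset.mem_filter, Finset.mem_insert, Finset.mem_singleton]
    tauto
  have hcount : T ≤ G.card + ((R \ Ω).card + 2) := by
    rw [← hCcard]
    refine (Finset.card_le_card hcov).trans ((Finset.card_union_le _ _).trans ?_)
    apply Nat.add_le_add_left
    refine (Finset.card_union_le _ _).trans (Nat.add_le_add hB ?_)
    exact Finset.card_le_two
  have hG : k ≤ G.card := by omega
  obtain ⟨I, hI, hIc⟩ := Finset.exists_subset_card_eq hG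
  refine ⟨I, hIc, fun i hi => ?_⟩
  have h1 := hI hi
  rw [Finset.mem_filter] at h1
  obtain ⟨h2, h3, h4, h5⟩ := hC i h1.1
  exact ⟨h2, by omega, h4, by omega, h1.2.1, h1.2.2.1, h1.2.2.2⟩

end Cfsg.Agent.H446.DP.Comb
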