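import Cfsg.Agent.H370.DP.Num
import Cfsg.Agent.H446.DP.Comb

/-!
# `tight_comb`, `exists_J`, `exists_I` (helper446, for helper370, S3624)
-/

set_option autoImplicit false

namespace Cfsg.Agent.H446.DP

open Cfsg Cfsg.Agent.H369.Socle Subgroup Cfsg.Agent.H370.DP

theorem tight_comb {F : Type*} [Field F] [Fintype F] (hF : Fintype.card F = 2) {ι : Type*} [Fintype ι] {n : ℕ} (hn : 32 ≤ n)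
    (hne : Even n) {J : Finset ℕ} (hJ : ∀ s ∈ J, n < 4 * s ∧ 2 * s < n ∧ Odd s) (hcard : J.card = Fintype.card ι)
    (m : ι → ℕ) (hm : ∀ i, m i ≤ n) (g : ∀ i, Cfsg.Agent.H370.DP.PL F (m i)) (h1 : ∀ s ∈ J, ∃ i, Cfsg.Agent.H370.DP.P s ∣ orderOf (g i))
    (h2 : ∀ s ∈ J, ∃ i, Cfsg.Agent.H370.DP.P (n - s) ∣ orderOf (g i)) :
    ∀ i, m i = n ∧ ∃ s ∈ J, Cfsg.Agent.H370.DP.P s ∣ orderOf (g i) ∧ Cfsg.Agent.H370.DP.P (n - s) ∣ orderOf (g i) :=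
  Cfsg.Agent.H446.DP.Comb.tight_comb hF Cfsg.Agent.H370.DP.P (fun _ h => Cfsg.Agent.H370.DP.P_prime h) (fun _ h => Cfsg.Agent.H370.DP.P_ord h) hn hne hJ hcard m hm g h1 h2

theorem exists_J {l k e : ℕ} (hk : 2 ≤ k) (hn : 56 * k ^ 2 ≤ 2 ^ l) (he : 2 ≤ e) :
    ∃ J : Finset ℕ, J.card = k ∧ ∀ s ∈ J, 2 ^ l < 4 * s ∧ 2 * s < 2 ^ l ∧ Odd s ∧ ¬ e ∣ s ∧ ¬ e ∣ 2 ^ l - s :=
  Cfsg.Agent.H446.DP.Comb.exists_J hk hn he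

theorem exists_I {l k e m : ℕ} (hk : 2 ≤ k) (hn : 56 * k ^ 2 ≤ 2 ^ l) {Ω : Finset ℕ} (_hΩ : Ω ⊆ Cfsg.Agent.H370.DP.RR (2 ^ l))
    (hbig : 2 * (Cfsg.Agent.H370.DP.RR (2 ^ l) \ Ω).card ≤ k * (k + 3) + 4 * k) (hm : 2 * 2 ^ l ≤ 2 * m + 4 * k + k * (k + 3)) :
    ∃ I : Finset ℕ, I.card = k ∧ ∀ i ∈ I, Odd i ∧ 3 * 2 ^ l < 4 * i ∧ i + 1 ≤ m ∧ i ≤ 2 ^ l ∧ Cfsg.Agent.H370.DP.P i ∈ Ω ∧ i ≠ e ∧ i ≠ 3 * e :=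
  Cfsg.Agent.H446.DP.Comb.exists_I Cfsg.Agent.H370.DP.P (fun _ _ hi hj h => Cfsg.Agent.H370.DP.P_inj hi hj h) (fun i h1 h2 => Cfsg.Agent.H370.DP.mem_RR.2 ⟨i, h1, h2, rfl⟩) hk hn hbig hm

end Cfsg.Agent.H446.DP
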